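import Groth.Agent.QuadEven52.Split
import Mathlib.RingTheory.Etale.StandardEtale

/-!
An even-rank regular quadratic form becomes hyperbolic after an étale faithfully flat extension.
-/

set_option autoImplicit false
universe u w
set_option linter.style.haveILetI false

namespace QuadEven52

open Groth.Agent.Quad37 Polynomial

variable {R : Type u} [CommRing R] {n : ℕ}

theorem exists_etale_root (b c : R) (hD : IsUnit (b * b - 4 * c)) :
    ∃ (A : Type u) (_ : CommRing A) (_ : Algebra R A), Module.FaithfullyFlat R A ∧ Algebra.Etale R A ∧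
      ∃ t : A, t * t + algebraMap R A b * t + algebraMap R A c = 0 := by
  classical
  obtain ⟨d, hd⟩ := hD.exists_right_inv
  let f : R[X] := X ^ 2 + C b * X + C c
  let P : StandardEtalePair R :=
    { f := f
      monic_f := by simp only [f]; monicity!
      g := 1
      cond := ⟨C d * (2 * X + C b), C (-4 * d), 1, by
        have h1 : (C b * C b - 4 * C c) * C d = (1 : R[X]) := by
          rw [show (4 : R[X]) = C 4 from (map_ofNat C 4).symm, ← map_mul, ← map_mul, ← map_sub, ← map_mul, hd, map_one]
        simp only [f, derivative_add, derivative_X_pow, derivative_C_mul, derivative_C, derivative_X, map_mul, map_neg,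
          map_ofNat, pow_one, Nat.cast_ofNat, one_pow]
        linear_combination h1⟩ }
  refine ⟨P.Ring, inferInstance, inferInstance, ?_, inferInstance, P.X, ?_⟩
  · haveI : Module.Flat R P.Ring := Algebra.Smooth.flat R P.Ring
    refine Module.FaithfullyFlat.of_comap_surjective fun Q => ?_
    let K := AlgebraicClosure Q.asIdeal.ResidueField
    let φ : R →+* K := (algebraMap Q.asIdeal.ResidueField K).comp (algebraMap R Q.asIdeal.ResidueField)
    letI : Algebra R K := φ.toAlgebra
    have hdeg : (f.map φ).degree ≠ 0 := by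
      have : (f.map φ).degree = 2 := by
        simp only [f, Polynomial.map_add, Polynomial.map_mul, Polynomial.map_pow, map_X, map_C]
        compute_degree!
      rw [this]; decide
    obtain ⟨z, hz⟩ := IsAlgClosed.exists_root (f.map φ) hdeg
    have hmap : P.HasMap z := ⟨by rwa [aeval_def, ← eval_map], by simp [P]⟩
    let ev : P.Ring →ₐ[R] K := P.lift z hmap
    refine ⟨⟨RingHom.ker ev, RingHom.ker_isPrime ev⟩, PrimeSpectrum.ext ?_⟩
    ext r
    simp [PrimeSpectrum.comap_asIdeal, Ideal.mem_comap, RingHom.mem_ker, RingHom.algebraMap_toAlgebra, φ,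
      Ideal.algebraMap_residueField_eq_zero]
  · have h := P.hasMap_X.1
    simpa [P, f, sq] using h

theorem exists_plane {a : Sym2 (Fin n) → R} (hreg : QuadGrp.IsRegular (qf a)) {k : ℕ} (P : Pairs (qf a) k)
    (hk : 2 * k + 1 < n) (p : Ideal R) [p.IsPrime] :
    ∃ x y : Fin n → R, P.Orth x ∧ P.Orth y ∧
      qf a x * (QuadraticMap.polar (qf a) x y * QuadraticMap.polar (qf a) x y - 4 * (qf a x * qf a y)) ∉ p := by
  classical
  let φ : R →+* p.ResidueField := algebraMap R p.ResidueField
  have hφ : ∀ r, φ r = 0 ↔ r ∈ p := fun r => Ideal.algebraMap_residueField_eq_zero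
  have hregκ := regular_map φ hreg
  let red : (Fin n → R) → (Fin n → p.ResidueField) := fun v l => φ (v l)
  have hspan : ∀ (S : Submodule p.ResidueField (Fin n → p.ResidueField)),
      (∀ i, red (P.e i) ∈ S) → (∀ i, red (P.f i) ∈ S) → (∀ l, red (P.proj (Pi.single l 1)) ∈ S) → S = ⊤ := by
    intro S he hf hp
    rw [eq_top_iff, ← (Pi.basisFun p.ResidueField (Fin n)).span_eq, Submodule.span_le]
    rintro _ ⟨l, rfl⟩
    have h1 : (Pi.basisFun p.ResidueField (Fin n) l) = red (P.proj (Pi.single l 1)) +
        ∑ i, (φ (QuadraticMap.polar (qf a) (Pi.single l 1) (P.f i)) • red (P.e i) +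
          φ (QuadraticMap.polar (qf a) (Pi.single l 1) (P.e i)) • red (P.f i)) := by
      funext z
      simp [red, P.proj_apply, map_sum, Pi.single_apply, apply_ite φ, Finset.sum_apply]
    rw [h1]
    exact add_mem (hp l) (sum_mem fun i _ => add_mem (S.smul_mem _ (he i)) (S.smul_mem _ (hf i)))
  have hcard : ∀ g : Fin k ⊕ Fin k ⊕ Unit → (Fin n → p.ResidueField),
      Submodule.span p.ResidueField (Set.range g) ≠ ⊤ := by
    intro g h
    have h1 : (Set.range g).finrank p.ResidueField ≤ _ := finrank_range_le_card g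
    rw [Set.finrank, h, finrank_top, Module.finrank_fin_fun] at h1
    simp at h1
    omega
  have hnd : ∀ v, P.Orth v → (∀ z, P.Orth z → QuadraticMap.polar (qf a) v z ∈ p) → red v = 0 := by
    intro v hv hall
    apply hregκ.1
    rw [map_zero]
    refine (Pi.basisFun p.ResidueField (Fin n)).ext fun z => ?_
    have hz : (Pi.basisFun p.ResidueField (Fin n) z) = red (Pi.single z 1) := by
      funext i; simp [red, Pi.single_apply, apply_ite φ]
    rw [LinearMap.zero_apply, QuadraticMap.polarBilin_apply_apply, hz, ← polar_qf_map, hφ,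
      ← P.polar_proj hv]
    exact hall _ (P.proj_orth _)
  obtain ⟨x, hx, hxq⟩ : ∃ x, P.Orth x ∧ qf a x ∉ p := by
    by_contra hall
    push Not at hall
    refine hcard (Sum.elim (fun i => red (P.e i)) (Sum.elim (fun i => red (P.f i)) fun _ => 0)) ?_
    refine hspan _ (fun i => Submodule.subset_span ⟨Sum.inl i, rfl⟩)
      (fun i => Submodule.subset_span ⟨Sum.inr (Sum.inl i), rfl⟩) (fun l => ?_)
    suffices h : red (P.proj (Pi.single l 1)) = 0 by rw [h]; exact zero_mem _
    apply hregκ.1
    rw [map_zero]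
    refine (Pi.basisFun p.ResidueField (Fin n)).ext fun z => ?_
    have hz : (Pi.basisFun p.ResidueField (Fin n) z) = red (Pi.single z 1) := by
      funext i; simp [red, Pi.single_apply, apply_ite φ]
    rw [LinearMap.zero_apply, QuadraticMap.polarBilin_apply_apply, hz, ← polar_qf_map, hφ,
      ← P.polar_proj (P.proj_orth _)]
    have hx := P.proj_orth (Pi.single l 1)
    have hy := P.proj_orth (Pi.single z 1)
    refine sub_mem (sub_mem (hall _ fun i => ?_) (hall _ hx)) (hall _ hy)
    rw [QuadraticMap.polar_add_left, QuadraticMap.polar_add_left, (hx i).1, (hy i).1, (hx i).2, (hy i).2]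
    exact ⟨add_zero _, add_zero _⟩
  by_contra hall
  push Not at hall
  have hD : ∀ y, P.Orth y → QuadraticMap.polar (qf a) x y * QuadraticMap.polar (qf a) x y -
      4 * (qf a x * qf a y) ∈ p := fun y hy =>
    (Ideal.IsPrime.mem_or_mem ‹_› (hall x y hx hy)).resolve_left hxq
  by_cases h2 : φ 2 = 0
  · have hx0 := hnd x hx fun z hz => by
      have h := (hφ _).2 (hD z hz)
      have h4 : φ (4 * (qf a x * qf a z)) = 0 := by
        rw [show (4 : R) = 2 * 2 by norm_num, map_mul, map_mul, h2, zero_mul, zero_mul]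
      rw [map_sub, h4, sub_zero, map_mul, mul_self_eq_zero] at h
      exact (hφ _).1 h
    refine hxq ((hφ _).1 ?_)
    rw [qf_map, show (fun i => φ (x i)) = 0 from hx0, QuadraticMap.map_zero]
  have h2x : φ (2 * qf a x) ≠ 0 := by
    rw [map_mul]; exact mul_ne_zero h2 fun h => hxq ((hφ _).1 h)
  refine hcard (Sum.elim (fun i => red (P.e i)) (Sum.elim (fun i => red (P.f i)) fun _ => red x)) ?_
  refine hspan _ (fun i => Submodule.subset_span ⟨Sum.inl i, rfl⟩)
    (fun i => Submodule.subset_span ⟨Sum.inr (Sum.inl i), rfl⟩) (fun l => ?_)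
  set y := P.proj (Pi.single l 1)
  have hy : P.Orth y := P.proj_orth _
  let v : Fin n → R := (2 * qf a x) • y - QuadraticMap.polar (qf a) x y • x
  have hv : P.Orth v := fun i => by
    constructor <;> simp only [v, QuadraticMap.polar_sub_left, QuadraticMap.polar_smul_left] <;>
      simp [(hx i).1, (hx i).2, (hy i).1, (hy i).2]
  have hv0 : red v = 0 := hnd v hv fun z hz => by
    have hyz : P.Orth (y + z) := fun i => by
      constructor <;> simp [QuadraticMap.polar_add_left, (hy i).1, (hy i).2, (hz i).1, (hz i).2]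
    have h := p.sub_mem (p.sub_mem (hD _ hyz) (hD y hy)) (hD z hz)
    rw [QuadraticMap.polar_add_right, QuadraticMap.map_add (qf a) y z] at h
    simp only [v, QuadraticMap.polar_sub_left, QuadraticMap.polar_smul_left, smul_eq_mul]
    have h2' : (2 : R) * (2 * qf a x * QuadraticMap.polar (qf a) y z -
        QuadraticMap.polar (qf a) x y * QuadraticMap.polar (qf a) x z) ∈ p := by
      have := p.neg_mem h
      convert this using 1
      ring
    exact (Ideal.IsPrime.mem_or_mem ‹_› h2').resolve_left fun h => h2 ((hφ _).2 h)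
  have hy' : red y = (φ (QuadraticMap.polar (qf a) x y) / φ (2 * qf a x)) • red x := by
    funext j
    have h1 : φ (v j) = 0 := congrFun hv0 j
    simp only [v, Pi.sub_apply, Pi.smul_apply, smul_eq_mul] at h1
    rw [map_sub, map_mul, map_mul, sub_eq_zero] at h1
    simp only [red, Pi.smul_apply, smul_eq_mul]
    rw [div_mul_eq_mul_div, eq_div_iff h2x]
    simp only [map_mul] at h1 ⊢
    linear_combination h1
  rw [hy']
  exact Submodule.smul_mem _ _ (Submodule.subset_span ⟨Sum.inr (Sum.inr ()), rfl⟩)

theorem exists_succ_etale {a : Sym2 (Fin n) → R} (hreg : QuadGrp.IsRegular (qf a)) {k : ℕ} (P : Pairs (qf a) k)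
    (hk : 2 * k + 1 < n) :
    ∃ (A : Type u) (_ : CommRing A) (_ : Algebra R A), Module.FaithfullyFlat R A ∧ Algebra.Etale R A ∧
      Nonempty (Pairs (qf fun s => algebraMap R A (a s)) (k + 1)) := by
  classical
  choose x y hx hy hg using fun p : PrimeSpectrum R => exists_plane hreg P hk p.asIdeal
  let g : PrimeSpectrum R → R := fun p => qf a (x p) *
    (QuadraticMap.polar (qf a) (x p) (y p) * QuadraticMap.polar (qf a) (x p) (y p) - 4 * (qf a (x p) * qf a (y p)))
  have hspan : Ideal.span (Set.range g) = ⊤ := by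
    by_contra hne
    obtain ⟨M, hM, hle⟩ := Ideal.exists_le_maximal _ hne
    exact hg ⟨M, hM.isPrime⟩ (hle (Ideal.subset_span ⟨_, rfl⟩))
  obtain ⟨N, c, r, hr⟩ := Submodule.mem_span_set'.mp (show (1 : R) ∈ Ideal.span (Set.range g) by rw [hspan]; trivial)
  choose p hp using fun i => (r i).2
  let B := ∀ i : Fin N, Localization.Away (g (p i))
  haveI : ∀ i, Algebra.Etale R (Localization.Away (g (p i))) := fun i =>
    Algebra.Etale.of_isLocalizationAway (g (p i))
  haveI : Algebra.Etale R B := inferInstance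
  haveI : Algebra.FinitePresentation R B := Algebra.Etale.finitePresentation
  haveI : Module.Flat R B := Algebra.Smooth.flat R B
  haveI hBff : Module.FaithfullyFlat R B := by
    refine Module.FaithfullyFlat.of_comap_surjective fun Q => ?_
    obtain ⟨i, hi⟩ : ∃ i, g (p i) ∉ Q.asIdeal := by
      by_contra hc
      simp only [not_exists, not_not] at hc
      refine Q.isPrime.ne_top ((Ideal.eq_top_iff_one _).mpr ?_)
      rw [← hr]
      refine Submodule.sum_mem _ fun i _ => Submodule.smul_mem _ _ ?_
      rw [← hp i]; exact hc i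
    have hmem : Q ∈ (PrimeSpectrum.basicOpen (g (p i)) : Set (PrimeSpectrum R)) := hi
    rw [← PrimeSpectrum.localization_away_comap_range (Localization.Away (g (p i))) (g (p i))] at hmem
    obtain ⟨Q', hQ'⟩ := hmem
    refine ⟨PrimeSpectrum.comap (Pi.evalRingHom (fun j => Localization.Away (g (p j))) i) Q', ?_⟩
    rw [← hQ', ← PrimeSpectrum.comap_comp_apply]
    congr 1
  set ψ := algebraMap R B
  let X : Fin n → B := fun l i => algebraMap R (Localization.Away (g (p i))) (x (p i) l)
  let Y : Fin n → B := fun l i => algebraMap R (Localization.Away (g (p i))) (y (p i) l)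
  have hev : ∀ (i : Fin N) (s : Sym2 (Fin n)), Pi.evalRingHom (fun j => Localization.Away (g (p j))) i (ψ (a s)) =
      algebraMap R (Localization.Away (g (p i))) (a s) := fun i s => rfl
  have hqX : IsUnit (qf (fun s => ψ (a s)) X) := Pi.isUnit_iff.mpr fun i => by
    have h1 := qf_map (Pi.evalRingHom (fun j => Localization.Away (g (p j))) i) (fun s => ψ (a s)) X
    simp only [hev] at h1
    have h2 := qf_map (algebraMap R (Localization.Away (g (p i)))) a (x (p i))
    show IsUnit (Pi.evalRingHom (fun j => Localization.Away (g (p j))) i (qf (fun s => ψ (a s)) X))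
    rw [h1]
    refine (congrArg IsUnit h2).mp ?_
    exact isUnit_of_dvd_unit (map_dvd _ (Dvd.intro _ rfl)) (IsLocalization.Away.algebraMap_isUnit (g (p i)))
  let PB := P.map ψ
  have horth : ∀ (v : PrimeSpectrum R → Fin n → R), (∀ q, P.Orth (v q)) →
      PB.Orth (fun l i => algebraMap R (Localization.Away (g (p i))) (v (p i) l)) := by
    intro v hv j
    constructor <;> funext i
    · refine (polar_qf_map (Pi.evalRingHom (fun j => Localization.Away (g (p j))) i) (fun s => ψ (a s)) _ _).trans ?_
      refine (polar_qf_map (algebraMap R (Localization.Away (g (p i)))) a (v (p i)) (P.e j)).symm.trans ?_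
      rw [(hv (p i) j).1, map_zero]
      rfl
    · refine (polar_qf_map (Pi.evalRingHom (fun j => Localization.Away (g (p j))) i) (fun s => ψ (a s)) _ _).trans ?_
      refine (polar_qf_map (algebraMap R (Localization.Away (g (p i)))) a (v (p i)) (P.f j)).symm.trans ?_
      rw [(hv (p i) j).2, map_zero]
      rfl
  have hdisc : IsUnit (QuadraticMap.polar (qf fun s => ψ (a s)) X Y * QuadraticMap.polar (qf fun s => ψ (a s)) X Y -
      4 * (qf (fun s => ψ (a s)) X * qf (fun s => ψ (a s)) Y)) := Pi.isUnit_iff.mpr fun i => by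
    let ev := Pi.evalRingHom (fun j => Localization.Away (g (p j))) i
    let l := algebraMap R (Localization.Away (g (p i)))
    have h1 : ∀ v : PrimeSpectrum R → Fin n → R, ev (qf (fun s => ψ (a s)) (fun z j => algebraMap R
        (Localization.Away (g (p j))) (v (p j) z))) = l (qf a (v (p i))) := fun v => by
      rw [qf_map ev, qf_map l]
      rfl
    have h2 : ev (QuadraticMap.polar (qf fun s => ψ (a s)) X Y) = l (QuadraticMap.polar (qf a) (x (p i)) (y (p i))) := by
      rw [polar_qf_map ev, polar_qf_map l]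
      rfl
    show IsUnit (ev (QuadraticMap.polar (qf fun s => ψ (a s)) X Y * QuadraticMap.polar (qf fun s => ψ (a s)) X Y -
      4 * (qf (fun s => ψ (a s)) X * qf (fun s => ψ (a s)) Y)))
    rw [map_sub, map_mul, map_mul, map_mul, h1 x, h1 y, h2, map_ofNat, ← map_ofNat l 4, ← map_mul, ← map_mul, ← map_mul,
      ← map_sub]
    exact isUnit_of_dvd_unit (map_dvd l (Dvd.intro_left _ rfl)) (IsLocalization.Away.algebraMap_isUnit (g (p i)))
  obtain ⟨u0, hu0⟩ := hqX
  obtain ⟨A, _, _, hff, het, t, ht⟩ := exists_etale_root (R := B)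
    ((↑u0⁻¹ : B) * QuadraticMap.polar (qf fun s => ψ (a s)) X Y) ((↑u0⁻¹ : B) * qf (fun s => ψ (a s)) Y) (by
      have : IsUnit ((↑u0⁻¹ : B) * (↑u0⁻¹ : B) * (QuadraticMap.polar (qf fun s => ψ (a s)) X Y *
          QuadraticMap.polar (qf fun s => ψ (a s)) X Y - 4 * (qf (fun s => ψ (a s)) X * qf (fun s => ψ (a s)) Y))) :=
        ((Units.isUnit _).mul (Units.isUnit _)).mul hdisc
      have e : ((↑u0⁻¹ : B) * QuadraticMap.polar (qf fun s => ψ (a s)) X Y) *
          ((↑u0⁻¹ : B) * QuadraticMap.polar (qf fun s => ψ (a s)) X Y) -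
          4 * ((↑u0⁻¹ : B) * qf (fun s => ψ (a s)) Y) = (↑u0⁻¹ : B) * (↑u0⁻¹ : B) *
          (QuadraticMap.polar (qf fun s => ψ (a s)) X Y *
          QuadraticMap.polar (qf fun s => ψ (a s)) X Y - 4 * (qf (fun s => ψ (a s)) X * qf (fun s => ψ (a s)) Y)) := by
        rw [← hu0]
        linear_combination (4 * ((↑u0⁻¹ : B) * qf (fun s => ψ (a s)) Y)) * u0.inv_mul
      rw [e]; exact this)
  letI : Algebra R A := ((algebraMap B A).comp ψ).toAlgebra
  haveI : IsScalarTower R B A := IsScalarTower.of_algebraMap_eq fun _ => rfl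
  haveI := hff
  haveI := het
  refine ⟨A, inferInstance, inferInstance, Module.FaithfullyFlat.trans R B A, Algebra.Etale.comp R B A, ?_⟩
  set χ := algebraMap B A
  let aA : Sym2 (Fin n) → A := fun s => χ (ψ (a s))
  have hregA : QuadGrp.IsRegular (qf aA) := regular_map χ (regular_map ψ hreg)
  let PA := PB.map χ
  let XA : Fin n → A := fun l => χ (X l)
  let YA : Fin n → A := fun l => χ (Y l)
  have hXo : PA.Orth XA := fun j => ⟨(polar_qf_map χ _ X (PB.e j)).symm.trans (by rw [((horth x hx) j).1, map_zero]),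
    (polar_qf_map χ _ X (PB.f j)).symm.trans (by rw [((horth x hx) j).2, map_zero])⟩
  have hYo : PA.Orth YA := fun j => ⟨(polar_qf_map χ _ Y (PB.e j)).symm.trans (by rw [((horth y hy) j).1, map_zero]),
    (polar_qf_map χ _ Y (PB.f j)).symm.trans (by rw [((horth y hy) j).2, map_zero])⟩
  let U : Fin n → A := t • XA + YA
  have hUo : PA.Orth U := fun j => by
    constructor <;> rw [QuadraticMap.polar_add_left, QuadraticMap.polar_smul_left]
    · rw [(hXo j).1, (hYo j).1, smul_zero, add_zero]
    · rw [(hXo j).2, (hYo j).2, smul_zero, add_zero]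
  have hqU : qf aA U = 0 := by
    have e1 : qf aA XA = χ (qf (fun s => ψ (a s)) X) := (qf_map χ _ _).symm
    have e2 : qf aA YA = χ (qf (fun s => ψ (a s)) Y) := (qf_map χ _ _).symm
    have e3 : QuadraticMap.polar (qf aA) XA YA = χ (QuadraticMap.polar (qf fun s => ψ (a s)) X Y) :=
      (polar_qf_map χ _ _ _).symm
    have h1 : χ (u0 : B) * χ (↑u0⁻¹ : B) = 1 := by rw [← map_mul, Units.mul_inv, map_one]
    rw [QuadraticMap.map_add (qf aA), QuadraticMap.map_smul, QuadraticMap.polar_smul_left, e1, e2, e3, ← hu0,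
      smul_eq_mul, smul_eq_mul]
    simp only [map_mul] at ht
    linear_combination (χ (u0 : B)) * ht - (t * χ (QuadraticMap.polar (qf fun s => ψ (a s)) X Y) +
      χ (qf (fun s => ψ (a s)) Y)) * h1
  have hXY : QuadraticMap.polar (qf aA) XA YA = χ (QuadraticMap.polar (qf fun s => ψ (a s)) X Y) :=
    (polar_qf_map χ _ _ _).symm
  have hs2 : IsUnit (QuadraticMap.polar (qf aA) U XA) := by
    have e1 : qf aA XA = χ (qf (fun s => ψ (a s)) X) := (qf_map χ _ _).symm
    have e2 : qf aA YA = χ (qf (fun s => ψ (a s)) Y) := (qf_map χ _ _).symm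
    refine isUnit_of_mul_isUnit_left (y := QuadraticMap.polar (qf aA) U XA) ?_
    have h' := hdisc.map χ
    convert h' using 1
    have hq := hqU
    rw [QuadraticMap.map_add (qf aA), QuadraticMap.map_smul, QuadraticMap.polar_smul_left, smul_eq_mul, smul_eq_mul] at hq
    rw [QuadraticMap.polar_add_left, QuadraticMap.polar_smul_left, QuadraticMap.polar_self, QuadraticMap.polar_comm _ YA,
      map_sub, map_mul, map_mul, map_mul, map_ofNat, ← e1, ← e2, ← hXY, smul_eq_mul, nsmul_eq_mul, Nat.cast_ofNat]
    linear_combination 4 * qf aA XA * hq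
  obtain ⟨z, hzdef⟩ : ∃ z, z = (↑hs2.unit⁻¹ : A) • XA := ⟨_, rfl⟩
  have hUz : QuadraticMap.polar (qf aA) U z = 1 := by
    rw [hzdef, QuadraticMap.polar_smul_right, smul_eq_mul]
    exact IsUnit.val_inv_mul hs2
  let V := z - qf aA z • U
  have hUU : QuadraticMap.polar (qf aA) U U = 0 := by rw [QuadraticMap.polar_self, hqU, smul_zero]
  have hVo : PA.Orth V := fun j => by
    have : QuadraticMap.polar (qf aA) z (PA.e j) = 0 ∧ QuadraticMap.polar (qf aA) z (PA.f j) = 0 := by
      rw [hzdef]
      exact ⟨(QuadraticMap.polar_smul_left _ _ _ _).trans ((congrArg _ (hXo j).1).trans (smul_zero _)),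
        (QuadraticMap.polar_smul_left _ _ _ _).trans ((congrArg _ (hXo j).2).trans (smul_zero _))⟩
    constructor <;> rw [QuadraticMap.polar_sub_left, QuadraticMap.polar_smul_left]
    · rw [(hUo j).1, this.1, smul_zero, sub_zero]
    · rw [(hUo j).2, this.2, smul_zero, sub_zero]
  have hqV : qf aA V = 0 := by
    show qf aA (z - qf aA z • U) = 0
    rw [sub_eq_add_neg, ← neg_smul, QuadraticMap.map_add (qf aA), QuadraticMap.map_smul, QuadraticMap.polar_smul_right,
      QuadraticMap.polar_comm, hUz, hqU, smul_eq_mul, smul_eq_mul]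
    ring
  have hUV : QuadraticMap.polar (qf aA) U V = 1 := by
    show QuadraticMap.polar (qf aA) U (z - qf aA z • U) = 1
    rw [QuadraticMap.polar_sub_right, QuadraticMap.polar_smul_right, hUz, hUU, smul_zero, sub_zero]
  have hVV : QuadraticMap.polar (qf aA) V V = 0 := by rw [QuadraticMap.polar_self, hqV, smul_zero]
  suffices h : Nonempty (Pairs (qf aA) (k + 1)) from h
  refine ⟨⟨Fin.cons U PA.e, Fin.cons V PA.f, ?_, ?_, ?_, ?_, ?_⟩⟩
  · exact fun i => Fin.cases hqU PA.qe i
  · exact fun i => Fin.cases hqV PA.qf' i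
  · intro i j
    refine Fin.cases ?_ (fun i => ?_) i <;> refine Fin.cases ?_ (fun j => ?_) j
    · simpa using hUV
    · simpa [(Fin.succ_ne_zero j).symm] using (hUo j).2
    · simpa [QuadraticMap.polar_comm _ (PA.e i)] using (hVo i).1
    · simpa using PA.ef i j
  · intro i j
    refine Fin.cases ?_ (fun i => ?_) i <;> refine Fin.cases ?_ (fun j => ?_) j
    · exact hUU
    · exact (hUo j).1
    · exact (QuadraticMap.polar_comm _ _ _).trans (hUo i).1
    · exact PA.ee i j
  · intro i j
    refine Fin.cases ?_ (fun i => ?_) i <;> refine Fin.cases ?_ (fun j => ?_) j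
    · exact hVV
    · exact (hVo j).2
    · exact (QuadraticMap.polar_comm _ _ _).trans (hVo i).2
    · exact PA.ff i j

theorem exists_pairs_etale {m : ℕ} (a : Sym2 (Fin (2 * m)) → R) (hreg : QuadGrp.IsRegular (qf a)) :
    ∀ k ≤ m, ∃ (A : Type u) (_ : CommRing A) (_ : Algebra R A), Module.FaithfullyFlat R A ∧
      Algebra.Etale R A ∧ Nonempty (Pairs (qf fun s => algebraMap R A (a s)) k)
  | 0, _ => ⟨R, inferInstance, inferInstance, inferInstance, inferInstance,
      ⟨⟨Fin.elim0, Fin.elim0, fun i => i.elim0, fun i => i.elim0, fun i => i.elim0, fun i => i.elim0,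
        fun i => i.elim0⟩⟩⟩
  | k + 1, hk => by
    obtain ⟨A, _, _, hff, het, ⟨P⟩⟩ := exists_pairs_etale a hreg k (by omega)
    obtain ⟨A', _, _, hff', het', ⟨P'⟩⟩ := exists_succ_etale (regular_map (algebraMap R A) hreg) P (by omega)
    letI : Algebra R A' := ((algebraMap A A').comp (algebraMap R A)).toAlgebra
    haveI : IsScalarTower R A A' := IsScalarTower.of_algebraMap_eq fun _ => rfl
    haveI := hff; haveI := het; haveI := hff'; haveI := het'
    exact ⟨A', inferInstance, inferInstance, Module.FaithfullyFlat.trans R A A',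
      Algebra.Etale.comp R A A', ⟨P'⟩⟩

end QuadEven52
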